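import Mathlib

/-!
# Elements of `k' ⊗ R` acting injectively on `V ⊗ L`
-/

universe u

open TensorProduct

namespace Groth.FlatDescent.Joint

section
variable {k : Type u} [CommRing k] (k' : Type u) [CommRing k'] [Algebra k k'] (R : Type u) [CommRing R] [Algebra k R]
  (V : Type u) [AddCommGroup V] [Module k V] [Module k' V] [IsScalarTower k k' V]
  (L : Type u) [AddCommGroup L] [Module k L] [Module R L] [IsScalarTower k R L]

/-- The action of `k' ⊗ R` on `V ⊗ L`. -/
noncomputable def act : k' ⊗[k] R →ₐ[k] Module.End k (V ⊗[k] L) :=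
  Algebra.TensorProduct.lift
    ((Module.End.rTensorAlgHom (R := k) (M := V) (N := L)).comp (Algebra.lsmul k k V))
    ((Module.End.lTensorAlgHom (R := k) (M := L) (N := V)).comp (Algebra.lsmul k k L))
    (fun a r => by
      refine TensorProduct.ext' fun v l => ?_
      rfl)

theorem act_tmul (a : k') (r : R) (v : V) (l : L) : act k' R V L (a ⊗ₜ[k] r) (v ⊗ₜ[k] l) = (a • v) ⊗ₜ[k] (r • l) := rfl

variable {k' R V L}

theorem act_natural {L' : Type u} [AddCommGroup L'] [Module k L'] [Module R L'] [IsScalarTower k R L']
    (f : L →ₗ[R] L') (σ : k' ⊗[k] R) (y : V ⊗[k] L) :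
    (f.restrictScalars k).lTensor V (act k' R V L σ y) = act k' R V L' σ ((f.restrictScalars k).lTensor V y) := by
  induction σ using TensorProduct.induction_on with
  | zero => simp only [map_zero, LinearMap.zero_apply]
  | add s t hs ht => simp only [map_add, LinearMap.add_apply, hs, ht]
  | tmul a r =>
    induction y using TensorProduct.induction_on with
    | zero => simp only [map_zero]
    | add p q hp hq => simp only [map_add, hp, hq]
    | tmul v l => simp only [act_tmul, LinearMap.lTensor_tmul, LinearMap.restrictScalars_apply, map_smul]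

end

section
variable {k : Type u} [Field k] {k' : Type u} [Field k'] [Algebra k k'] {R : Type u} [CommRing R] [Algebra k R]
  {V : Type u} [AddCommGroup V] [Module k V] [Module k' V] [IsScalarTower k k' V]
  {L : Type u} [AddCommGroup L] [Module k L] [Module R L] [IsScalarTower k R L]

theorem eq_zero_of_act_eq_zero_of_field {K : Type u} [Field K] [Algebra k K] [Algebra R K] [IsScalarTower k R K]
    [Module K L] [IsScalarTower R K L] [IsScalarTower k K L]
    (σ : k' ⊗[k] R)
    (hσ : ∀ z : k' ⊗[k] K, Algebra.TensorProduct.map (AlgHom.id k k') (IsScalarTower.toAlgHom k R K) σ * z = 0 → z = 0)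
    (y : V ⊗[k] L) (hy : act k' R V L σ y = 0) : y = 0 := by
  classical
  let bV := Module.Free.chooseBasis k' V
  let bL := Module.Free.chooseBasis K L
  let c := TensorProduct.congr (bV.repr.restrictScalars k) (bL.repr.restrictScalars k)
  let j := c.trans (finsuppTensorFinsupp k k k' K _ _)
  have hj : ∀ (s : k' ⊗[k] R) (z : V ⊗[k] L) p, j (act k' R V L s z) p =
      Algebra.TensorProduct.map (AlgHom.id k k') (IsScalarTower.toAlgHom k R K) s * j z p := fun s z p => by
    induction s using TensorProduct.induction_on with
    | zero => simp only [map_zero, LinearMap.zero_apply, Finsupp.coe_zero, Pi.zero_apply, zero_mul]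
    | add s t hs ht => simp only [map_add, LinearMap.add_apply, Finsupp.coe_add, Pi.add_apply, hs, ht, add_mul]
    | tmul a r =>
      induction z using TensorProduct.induction_on with
      | zero => simp only [map_zero, Finsupp.coe_zero, Pi.zero_apply, mul_zero]
      | add s t hs ht => simp only [map_add, Finsupp.coe_add, Pi.add_apply, hs, ht, mul_add]
      | tmul v l =>
        obtain ⟨i, i'⟩ := p
        rw [act_tmul]
        simp only [j, c, LinearEquiv.trans_apply, TensorProduct.congr_tmul, LinearEquiv.restrictScalars_apply,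
          finsuppTensorFinsupp_apply, Algebra.TensorProduct.map_tmul, AlgHom.coe_id, id_eq,
          IsScalarTower.coe_toAlgHom', Algebra.TensorProduct.tmul_mul_tmul]
        rw [← algebraMap_smul K r l, map_smul, map_smul]
        rfl
  refine j.injective (Finsupp.ext fun p => ?_)
  rw [map_zero, Finsupp.coe_zero, Pi.zero_apply]
  exact hσ _ (by rw [← hj, hy, map_zero, Finsupp.coe_zero, Pi.zero_apply])

theorem eq_zero_of_act_eq_zero [IsLocalRing R] [IsNoetherianRing R] [Module.Finite R L]
    (σ : k' ⊗[k] R)
    (hσ : ∀ z : k' ⊗[k] IsLocalRing.ResidueField R,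
      Algebra.TensorProduct.map (AlgHom.id k k') (IsScalarTower.toAlgHom k R (IsLocalRing.ResidueField R)) σ * z = 0 →
        z = 0)
    (y : V ⊗[k] L) (hy : act k' R V L σ y = 0) : y = 0 := by
  let m := IsLocalRing.maximalIdeal R
  let N : ℕ → Submodule R L := fun n => m ^ n • ⊤
  have key : ∀ n, ∃ y' : V ⊗[k] N n, ((N n).subtype.restrictScalars k).lTensor V y' = y := by
    intro n
    induction n with
    | zero =>
      refine LinearMap.lTensor_surjective V (g := (N 0).subtype.restrictScalars k) (fun l => ⟨⟨l, ?_⟩, rfl⟩) y
      simp [N]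
    | succ n ih =>
      obtain ⟨y', hy'⟩ := ih
      have hy'0 : act k' R V (N n) σ y' = 0 :=
        Module.Flat.lTensor_preserves_injective_linearMap (M := V) ((N n).subtype.restrictScalars k)
          Subtype.val_injective (by rw [map_zero, act_natural, hy', hy])
      let P : Submodule R (N n) := m • ⊤
      letI : Module (IsLocalRing.ResidueField R) (↥(N n) ⧸ P) :=
        (Module.isTorsionBySet_quotient_ideal_smul (N n) m).module
      haveI : IsScalarTower R (IsLocalRing.ResidueField R) (↥(N n) ⧸ P) :=
        (Module.isTorsionBySet_quotient_ideal_smul (N n) m).isScalarTower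
      haveI : IsScalarTower k (IsLocalRing.ResidueField R) (↥(N n) ⧸ P) :=
        IsScalarTower.of_algebraMap_smul fun a x => by
          rw [IsScalarTower.algebraMap_apply k R, algebraMap_smul, algebraMap_smul]
      have h0 : (P.mkQ.restrictScalars k).lTensor V y' = 0 :=
        eq_zero_of_act_eq_zero_of_field σ hσ _ (by rw [← act_natural, hy'0, map_zero])
      have hex : Function.Exact (P.subtype.restrictScalars k) (P.mkQ.restrictScalars k) :=
        LinearMap.exact_subtype_mkQ P
      obtain ⟨z, hz⟩ := (lTensor_exact V hex (Submodule.mkQ_surjective P) y').mp h0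
      let g : ↥P →ₗ[R] N (n + 1) := LinearMap.codRestrict _ ((N n).subtype ∘ₗ P.subtype) fun p => by
        have h1 : ((p : N n) : L) ∈ P.map (N n).subtype := ⟨p, p.2, rfl⟩
        rw [Submodule.map_smul'', Submodule.map_subtype_top] at h1
        have h2 : m • (m ^ n • (⊤ : Submodule R L)) = m ^ (n + 1) • ⊤ := by
          rw [← Submodule.smul_assoc, smul_eq_mul, ← pow_succ']
        show ((p : N n) : L) ∈ m ^ (n + 1) • (⊤ : Submodule R L)
        rw [← h2]
        exact h1
      refine ⟨(g.restrictScalars k).lTensor V z, ?_⟩
      rw [← hy', ← hz, ← LinearMap.comp_apply, ← LinearMap.comp_apply, ← LinearMap.lTensor_comp, ← LinearMap.lTensor_comp]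
      rfl
  let b := Module.Free.chooseBasis k V
  refine (TensorProduct.equivFinsuppOfBasisLeft b).injective (Finsupp.ext fun i => ?_)
  rw [map_zero, Finsupp.coe_zero, Pi.zero_apply]
  have hmem : TensorProduct.equivFinsuppOfBasisLeft b y i ∈ ⨅ n, m ^ n • (⊤ : Submodule R L) := by
    refine Submodule.mem_iInf _ |>.mpr fun n => ?_
    obtain ⟨y', rfl⟩ := key n
    clear hy key
    induction y' using TensorProduct.induction_on with
    | zero => simp
    | add p q hp hq => rw [map_add, map_add, Finsupp.coe_add, Pi.add_apply]; exact add_mem hp hq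
    | tmul v l =>
      rw [LinearMap.lTensor_tmul, TensorProduct.equivFinsuppOfBasisLeft_apply_tmul_apply]
      exact ((N n).restrictScalars k).smul_mem _ l.2
  rw [Ideal.iInf_pow_smul_eq_bot_of_isLocalRing _ (IsLocalRing.maximalIdeal.isMaximal R).ne_top] at hmem
  exact hmem

end

end Groth.FlatDescent.Joint
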