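import Mathlib
import Groth.Agent.FlatDescent.Joint.Core

/-!
# Kernels of `W ⊗ M → E ⊗ M` after localisation at a prime
-/

universe u

open TensorProduct

namespace Groth.FlatDescent.Joint

theorem exists_notMem_smul_eq_zero {A' C N W E : Type u} [CommRing A'] [CommRing C] [Algebra A' C] [AddCommGroup N]
    [Module A' N] [Module C N] [IsScalarTower A' C N] [AddCommGroup W] [Module A' W] [AddCommGroup E] [Module A' E]
    (ι : W →ₗ[A'] E) (hι : Function.Injective ι) (q : Ideal C) [q.IsPrime]
    [Module.Flat A' (LocalizedModule q.primeCompl N)] (y : N ⊗[A'] W) (hy : ι.lTensor N y = 0) :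
    ∃ s : C, s ∉ q ∧ s • y = 0 := by
  let f := LocalizedModule.mkLinearMap q.primeCompl N
  let fW : N ⊗[A'] W →ₗ[C] LocalizedModule q.primeCompl N ⊗[A'] W := AlgebraTensorModule.rTensor A' W f
  have h0 : fW y = 0 := by
    refine Module.Flat.lTensor_preserves_injective_linearMap (M := LocalizedModule q.primeCompl N) ι hι ?_
    rw [map_zero]
    have h1 : ι.lTensor (LocalizedModule q.primeCompl N) (fW y) =
        (f.restrictScalars A').rTensor E (ι.lTensor N y) := by
      show ((ι.lTensor _).comp ((f.restrictScalars A').rTensor W)) y = ((f.restrictScalars A').rTensor E).comp (ι.lTensor N) y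
      rw [LinearMap.lTensor_comp_rTensor, LinearMap.rTensor_comp_lTensor]
    rw [h1, hy, map_zero]
  obtain ⟨⟨s, hs⟩, hsy⟩ := (IsLocalizedModule.eq_zero_iff q.primeCompl fW).mp h0
  exact ⟨s, hs, hsy⟩

section
variable {A B A' M W : Type u} [CommRing A] [CommRing B] [Algebra A B] [CommRing A'] [Algebra A A']
  [AddCommGroup M] [Module A M] [Module B M] [IsScalarTower A B M]
  [AddCommGroup W] [Module A W] [Module A' W] [IsScalarTower A A' W]

variable (B A') in
/-- The annihilator in `B ⊗ A'` of an element of `W ⊗ M`. -/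
noncomputable def ann (x : W ⊗[A] M) : Ideal (B ⊗[A] A') where
  carrier := {c | act A' B W M (Algebra.TensorProduct.comm A B A' c) x = 0}
  add_mem' {c d} hc hd := by
    simp only [Set.mem_setOf_eq, map_add, LinearMap.add_apply] at hc hd ⊢
    rw [hc, hd, add_zero]
  zero_mem' := by simp only [Set.mem_setOf_eq, map_zero, LinearMap.zero_apply]
  smul_mem' d c hc := by
    simp only [Set.mem_setOf_eq, smul_eq_mul, map_mul, Module.End.mul_apply] at hc ⊢
    rw [hc, map_zero]

theorem mem_ann {x : W ⊗[A] M} {c : B ⊗[A] A'} :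
    c ∈ ann B A' x ↔ act A' B W M (Algebra.TensorProduct.comm A B A' c) x = 0 := Iff.rfl

/-- A prime of `B ⊗ A'` at which the base change of `M` is flat over `A'` does not contain the annihilator of a
kernel element. -/
theorem exists_notMem_ann {E : Type u} [AddCommGroup E] [Module A E] [Module A' E] [IsScalarTower A A' E]
    [Algebra A' (B ⊗[A] A')] (halg : ∀ a : A', algebraMap A' (B ⊗[A] A') a = 1 ⊗ₜ a)
    [IsScalarTower A A' (B ⊗[A] A')] [SMulCommClass B A' (B ⊗[A] A')]
    (ι : W →ₗ[A'] E) (hι : Function.Injective ι) (x : W ⊗[A] M) (hx : (ι.restrictScalars A).rTensor M x = 0)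
    (q : Ideal (B ⊗[A] A')) [q.IsPrime]
    [Module.Flat A' (LocalizedModule q.primeCompl ((B ⊗[A] A') ⊗[B] M))] :
    ∃ c ∈ ann B A' x, c ∉ q := by
  haveI : Algebra.IsPushout A A' B (B ⊗[A] A') := Algebra.IsPushout.symm ⟨by
    have heq : (IsScalarTower.toAlgHom A A' (B ⊗[A] A')).toLinearMap = TensorProduct.mk A B A' 1 :=
      LinearMap.ext halg
    rw [heq]
    exact TensorProduct.isBaseChange A A' B⟩
  let c := Algebra.IsPushout.cancelBaseChange A A' B (B ⊗[A] A') M
  let Φ : ∀ (V : Type u) [AddCommGroup V] [Module A V] [Module A' V] [IsScalarTower A A' V],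
      V ⊗[A] M →ₗ[A] ((B ⊗[A] A') ⊗[B] M) ⊗[A'] V := fun V _ _ _ _ =>
    (((AlgebraTensorModule.cancelBaseChange A A' A' V M).symm.trans (TensorProduct.comm A' V _)).trans
      (TensorProduct.congr c.symm (LinearEquiv.refl A' V))).toLinearMap.restrictScalars A
  have hΦ : ∀ (V : Type u) [AddCommGroup V] [Module A V] [Module A' V] [IsScalarTower A A' V] (v : V) (m : M),
      Φ V (v ⊗ₜ m) = ((1 : B ⊗[A] A') ⊗ₜ m) ⊗ₜ v := fun V _ _ _ _ v m => by
    simp [Φ, c, halg, Algebra.TensorProduct.one_def]
  have hinj : ∀ (V : Type u) [AddCommGroup V] [Module A V] [Module A' V] [IsScalarTower A A' V],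
      Function.Injective (Φ V) := fun V _ _ _ _ => LinearEquiv.injective _
  have h1 : ι.lTensor _ (Φ W x) = Φ E ((ι.restrictScalars A).rTensor M x) := by
    clear hx
    induction x using TensorProduct.induction_on with
    | zero => simp only [map_zero]
    | add s t hs ht => simp only [map_add, hs, ht]
    | tmul w m =>
      rw [hΦ, LinearMap.lTensor_tmul]
      exact (hΦ E (ι w) m).symm
  obtain ⟨s, hsq, hs⟩ := exists_notMem_smul_eq_zero ι hι q (Φ W x) (by rw [h1, hx, map_zero])
  refine ⟨s, hinj W ?_, hsq⟩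
  rw [map_zero, ← hs]
  clear hsq hs h1 hx
  induction s using TensorProduct.induction_on with
  | zero => simp only [map_zero, LinearMap.zero_apply, zero_smul]
  | add s t hs ht => simp only [map_add, LinearMap.add_apply, add_smul, hs, ht]
  | tmul b a =>
    induction x using TensorProduct.induction_on with
    | zero => simp only [map_zero, smul_zero]
    | add s t hs ht => simp only [map_add, smul_add, hs, ht]
    | tmul w m =>
      rw [Algebra.TensorProduct.comm_tmul, act_tmul, hΦ, hΦ, tmul_smul a, TensorProduct.smul_tmul' a,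
        ← TensorProduct.smul_tmul b, TensorProduct.smul_tmul' (b ⊗ₜ[A] a), TensorProduct.smul_tmul' (b ⊗ₜ[A] a)]
      refine congrArg (fun z => (z ⊗ₜ[B] m) ⊗ₜ[A'] w) ?_
      rw [Algebra.smul_def a, halg, Algebra.smul_def b, smul_eq_mul, mul_one, mul_one]
      simp [Algebra.TensorProduct.tmul_mul_tmul]

end

section
variable {A B : Type u} [CommRing A] [IsLocalRing A] [CommRing B] [Algebra A B]
  (A' : Type u) [CommRing A'] [IsLocalRing A'] [Algebra A A'] [IsLocalHom (algebraMap A A')]
  (Q : Ideal B) [Q.IsPrime] [IsLocalHom (algebraMap A (Localization.AtPrime Q))]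

/-- `B ⊗ A' → k' ⊗ κ(Q)`. -/
noncomputable def toFibre : B ⊗[A] A' →ₐ[A]
    IsLocalRing.ResidueField A' ⊗[IsLocalRing.ResidueField A] Q.ResidueField :=
  Algebra.TensorProduct.lift
    ((Algebra.TensorProduct.includeRight.restrictScalars A).comp (IsScalarTower.toAlgHom A B Q.ResidueField))
    (((Algebra.TensorProduct.includeLeft (S := IsLocalRing.ResidueField A)).restrictScalars A).comp
      (IsScalarTower.toAlgHom A A' (IsLocalRing.ResidueField A')))
    fun _ _ => Commute.all _ _

theorem toFibre_tmul (b : B) (a : A') :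
    toFibre A' Q (b ⊗ₜ[A] a) = IsLocalRing.residue A' a ⊗ₜ algebraMap B Q.ResidueField b := by
  simp [toFibre, Algebra.TensorProduct.tmul_mul_tmul]

variable {A'} {M : Type u} [AddCommGroup M] [Module A M] [Module B M] [IsScalarTower A B M]
  {W : Type u} [AddCommGroup W] [Module A W] [Module A' W] [IsScalarTower A A' W]

theorem lTensor_mk_eq_zero [IsNoetherianRing B] [Module.Finite B M]
    (hW : ∀ a ∈ IsLocalRing.maximalIdeal A', ∀ w : W, a • w = 0) (x : W ⊗[A] M)
    (τ : IsLocalRing.ResidueField A' ⊗[IsLocalRing.ResidueField A] Q.ResidueField)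
    (hτ : τ ∈ (ann B A' x).map (toFibre A' Q)) (hnzd : ∀ z, τ * z = 0 → z = 0) :
    ((LocalizedModule.mkLinearMap Q.primeCompl M).restrictScalars A).lTensor W x = 0 := by
  let m := IsLocalRing.maximalIdeal A
  let BQ := Localization.AtPrime Q
  let I : Ideal BQ := m.map (algebraMap A BQ)
  let k := IsLocalRing.ResidueField A
  let k' := IsLocalRing.ResidueField A'
  let R := BQ ⧸ I
  letI : Algebra k R := (Ideal.Quotient.lift m ((Ideal.Quotient.mk I).comp (algebraMap A BQ)) fun a ha =>
    Ideal.Quotient.eq_zero_iff_mem.mpr (Ideal.mem_map_of_mem _ ha)).toAlgebra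
  haveI : IsScalarTower A k R := IsScalarTower.of_algebraMap_eq fun a => rfl
  have hI : I ≤ IsLocalRing.maximalIdeal BQ :=
    ((IsLocalRing.local_hom_TFAE (algebraMap A BQ)).out 0 2 rfl rfl).mp inferInstance
  haveI : Nontrivial R := Ideal.Quotient.nontrivial_iff.mpr fun h => (IsLocalRing.maximalIdeal.isMaximal BQ).ne_top
    (top_le_iff.mp (h ▸ hI))
  haveI : IsLocalRing R := .of_surjective' (Ideal.Quotient.mk I) Ideal.Quotient.mk_surjective
  let L := LocalizedModule Q.primeCompl M
  haveI : SMulCommClass BQ k R := ⟨fun b a z => by rw [Algebra.smul_def a, Algebra.smul_def a, mul_smul_comm]⟩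
  let Lb := R ⊗[BQ] L
  let π : L →ₗ[A] Lb := ((TensorProduct.mk BQ R L) 1).restrictScalars A
  -- `W` over the residue fields
  have hT : Module.IsTorsionBySet A' W (IsLocalRing.maximalIdeal A' : Set A') := fun w a => hW a.1 a.2 w
  letI : Module k' W := hT.module
  haveI : IsScalarTower A' k' W := hT.isScalarTower
  letI : Module k W := Module.compHom W (algebraMap k k')
  haveI : IsScalarTower k k' W := IsScalarTower.of_algebraMap_smul fun _ _ => rfl
  haveI : IsScalarTower A k W := IsScalarTower.of_algebraMap_smul fun a w => by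
    show algebraMap k k' (algebraMap A k a) • w = a • w
    rw [← IsScalarTower.algebraMap_apply A k k', IsScalarTower.algebraMap_apply A A' k', algebraMap_smul, algebraMap_smul]
  haveI : CompatibleSMul A k W Lb :=
    TensorProduct.CompatibleSMul.of_algebraMap_surjective (R := A) (A := k) W Lb IsLocalRing.residue_surjective
  let Ψ : W ⊗[A] Lb →ₗ[A] W ⊗[k] Lb := (TensorProduct.equivOfCompatibleSMul A k A W Lb).symm.toLinearMap
  have hΨ : ∀ (w : W) (l : Lb), Ψ (w ⊗ₜ l) = w ⊗ₜ[k] l := fun w l => rfl
  let mk' : M →ₗ[A] L := (LocalizedModule.mkLinearMap Q.primeCompl M).restrictScalars A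
  let P : W ⊗[A] M →ₗ[A] W ⊗[k] Lb := Ψ.comp ((π.comp mk').lTensor W)
  let θ : B ⊗[A] A' →ₐ[A] k' ⊗[k] R :=
    Algebra.TensorProduct.lift
      (((Algebra.TensorProduct.includeRight (R := k) (A := k')).restrictScalars A).comp (IsScalarTower.toAlgHom A B R))
      (((Algebra.TensorProduct.includeLeft (S := k) (B := R)).restrictScalars A).comp (IsScalarTower.toAlgHom A A' k'))
      (fun _ _ => Commute.all (S := k' ⊗[k] R) _ _)
  have hθ : ∀ b a, θ (b ⊗ₜ a) = IsLocalRing.residue A' a ⊗ₜ algebraMap B R b := fun b a => by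
    simp [θ, Algebra.TensorProduct.tmul_mul_tmul]
    rfl
  have hequiv : ∀ (c : B ⊗[A] A') (y : W ⊗[A] M),
      P (act A' B W M (Algebra.TensorProduct.comm A B A' c) y) = act k' R W Lb (θ c) (P y) := fun c y => by
    induction c using TensorProduct.induction_on with
    | zero => simp only [map_zero, LinearMap.zero_apply]
    | add s t hs ht => simp only [map_add, LinearMap.add_apply, hs, ht]
    | tmul b a =>
      induction y using TensorProduct.induction_on with
      | zero => simp only [map_zero]
      | add s t hs ht => simp only [map_add, hs, ht]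
      | tmul w n =>
        simp only [P, hθ, Algebra.TensorProduct.comm_tmul, act_tmul, LinearMap.comp_apply, LinearMap.lTensor_tmul, hΨ]
        refine congrArg₂ (fun p q => p ⊗ₜ[k] q) (algebraMap_smul k' a w).symm ?_
        show (1 : R) ⊗ₜ[BQ] mk' (b • n) = algebraMap B R b • ((1 : R) ⊗ₜ[BQ] mk' n)
        rw [show mk' (b • n) = algebraMap B BQ b • mk' n by
          rw [algebraMap_smul]; exact (LocalizedModule.mkLinearMap Q.primeCompl M).map_smul b n]
        rw [tmul_smul, IsScalarTower.algebraMap_apply B BQ R]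
        exact (algebraMap_smul R (algebraMap B BQ b) _).symm
  -- `R → κ(Q)`
  let e : R →ₐ[k] Q.ResidueField :=
    { Ideal.Quotient.factor hI with
      commutes' := fun a => by
        obtain ⟨a, rfl⟩ := IsLocalRing.residue_surjective a
        rfl }
  have he : Function.Surjective e := Ideal.Quotient.factor_surjective hI
  let RK : k' ⊗[k] R →ₐ[k] k' ⊗[k] Q.ResidueField := Algebra.TensorProduct.map (AlgHom.id k k') e
  have hRK : Function.Surjective RK := TensorProduct.map_surjective Function.surjective_id he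
  have hcomp : (toFibre A' Q).toRingHom = RK.toRingHom.comp θ.toRingHom := by
    refine congrArg AlgHom.toRingHom (Algebra.TensorProduct.ext' fun b a => ?_ :
      toFibre A' Q = (RK.restrictScalars A).comp θ)
    rw [toFibre_tmul, AlgHom.comp_apply, hθ]
    rfl
  have hτ' : τ ∈ ((ann B A' x).map θ.toRingHom).map RK.toRingHom := by
    rw [Ideal.map_map, ← hcomp]; exact hτ
  obtain ⟨σ, hσ, rfl⟩ := (Ideal.mem_map_iff_of_surjective _ hRK).mp hτ'
  let J : Ideal (k' ⊗[k] R) :=
    { carrier := {c | act k' R W Lb c (P x) = 0}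
      add_mem' := fun {c d} hc hd => by
        simp only [Set.mem_setOf_eq, map_add, LinearMap.add_apply] at hc hd ⊢
        rw [hc, hd, add_zero]
      zero_mem' := by simp only [Set.mem_setOf_eq, map_zero, LinearMap.zero_apply]
      smul_mem' := fun d c hc => by
        simp only [Set.mem_setOf_eq, smul_eq_mul, map_mul, Module.End.mul_apply] at hc ⊢
        rw [hc, map_zero] }
  have hJ : act k' R W Lb σ (P x) = 0 := by
    suffices (ann B A' x).map θ.toRingHom ≤ J from this hσ
    refine Ideal.map_le_iff_le_comap.mpr fun c hc => ?_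
    show act k' R W Lb (θ c) (P x) = 0
    rw [← hequiv, mem_ann.mp hc, map_zero]
  -- residue field of `R`
  let g : IsLocalRing.ResidueField R →ₐ[k] Q.ResidueField :=
    Ideal.Quotient.liftₐ (IsLocalRing.maximalIdeal R) e fun r hr => by
      have h := IsLocalRing.eq_maximalIdeal (RingHom.ker_isMaximal_of_surjective e.toRingHom he)
      exact RingHom.mem_ker.mp (h.symm ▸ hr : r ∈ RingHom.ker e.toRingHom)
  have hg : Function.Injective (Algebra.TensorProduct.map (AlgHom.id k k') g) :=
    Module.Flat.lTensor_preserves_injective_linearMap (M := k') g.toLinearMap g.toRingHom.injective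
  have hP0 : P x = 0 := eq_zero_of_act_eq_zero σ (fun z hz => by
    refine hg ?_
    rw [map_zero]
    refine hnzd _ ?_
    rw [← map_zero (Algebra.TensorProduct.map (AlgHom.id k k') g), ← hz, map_mul]
    refine congrArg (· * _) ?_
    show RK σ = _
    rw [← AlgHom.comp_apply, ← Algebra.TensorProduct.map_comp]
    rfl) (P x) hJ
  -- `W ⊗ L → W ⊗ Lb` is injective
  have h0 : π.lTensor W (mk'.lTensor W x) = 0 := by
    rw [← LinearMap.comp_apply, ← LinearMap.lTensor_comp]
    exact (TensorProduct.equivOfCompatibleSMul A k A W Lb).symm.injective (hP0.trans (map_zero _).symm)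
  have hπs : Function.Surjective π := TensorProduct.mk_surjective BQ L R Ideal.Quotient.mk_surjective
  have hker : LinearMap.ker π ≤ m • (⊤ : Submodule A L) := by
    intro l hl
    have h1 := congrArg (TensorProduct.quotTensorEquivQuotSMul L I) (LinearMap.mem_ker.mp hl)
    rw [map_zero] at h1
    have h2 : l ∈ I • (⊤ : Submodule BQ L) := by
      have h3 : TensorProduct.quotTensorEquivQuotSMul L I ((Ideal.Quotient.mk I 1) ⊗ₜ[BQ] l) = 0 := by
        rw [map_one]; exact h1
      rwa [TensorProduct.quotTensorEquivQuotSMul_mk_tmul, one_smul, Submodule.Quotient.mk_eq_zero] at h3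
    have h4 : l ∈ (I • (⊤ : Submodule BQ L)).restrictScalars A := h2
    rwa [Ideal.smul_restrictScalars, Submodule.restrictScalars_top] at h4
  obtain ⟨z, hz⟩ := (lTensor_exact W (LinearMap.exact_subtype_ker_map π) hπs _).mp h0
  show mk'.lTensor W x = 0
  rw [← hz]
  clear hz
  induction z using TensorProduct.induction_on with
  | zero => exact map_zero _
  | add s t hs ht => rw [map_add, hs, ht, add_zero]
  | tmul w l =>
    rw [LinearMap.lTensor_tmul]
    refine Submodule.smul_induction_on (p := fun z => w ⊗ₜ[A] z = 0) (hker l.2) (fun a ha n _ => ?_)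
      (fun s t hs ht => by rw [tmul_add, hs, ht, add_zero])
    rw [← TensorProduct.smul_tmul, ← algebraMap_smul A' a w, hW _ (map_nonunit _ a ha), zero_tmul]

/-- `W ⊗ M_Q → E ⊗ M_Q` is injective. -/
theorem rTensor_injective_of_joint [IsNoetherianRing B] [Module.Finite B M]
    (hW : ∀ a ∈ IsLocalRing.maximalIdeal A', ∀ w : W, a • w = 0)
    {E : Type u} [AddCommGroup E] [Module A E] [Module A' E] [IsScalarTower A A' E]
    (ι : W →ₗ[A'] E)
    (hgood : ∀ x : W ⊗[A] M, (ι.restrictScalars A).rTensor M x = 0 →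
      ∃ τ ∈ (ann B A' x).map (toFibre A' Q), ∀ z, τ * z = 0 → z = 0) :
    Function.Injective ((ι.restrictScalars A).rTensor (LocalizedModule Q.primeCompl M)) := by
  let L := LocalizedModule Q.primeCompl M
  let f := LocalizedModule.mkLinearMap Q.primeCompl M
  let fW : M ⊗[A] W →ₗ[B] L ⊗[A] W := AlgebraTensorModule.rTensor A W f
  let fE : M ⊗[A] E →ₗ[B] L ⊗[A] E := AlgebraTensorModule.rTensor A E f
  let ιM : M ⊗[A] W →ₗ[B] M ⊗[A] E := AlgebraTensorModule.lTensor B M (ι.restrictScalars A)
  let ιL : L ⊗[A] W →ₗ[B] L ⊗[A] E := AlgebraTensorModule.lTensor B L (ι.restrictScalars A)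
  have hsq : ∀ y, ιL (fW y) = fE (ιM y) := fun y => by
    show (((ι.restrictScalars A).lTensor L).comp ((f.restrictScalars A).rTensor W)) y =
      (((f.restrictScalars A).rTensor E).comp ((ι.restrictScalars A).lTensor M)) y
    rw [LinearMap.lTensor_comp_rTensor, LinearMap.rTensor_comp_lTensor]
  suffices hinj : Function.Injective ((ι.restrictScalars A).lTensor L) from
    (LinearMap.lTensor_inj_iff_rTensor_inj ..).mp hinj
  refine (injective_iff_map_eq_zero _).mpr fun z hz => ?_
  have hz' : ιL z = 0 := hz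
  obtain ⟨⟨y, t⟩, ht⟩ := IsLocalizedModule.surj Q.primeCompl fW z
  have h1 : fE (ιM y) = 0 := by
    rw [← hsq, ← ht, Submonoid.smul_def, map_smul, hz', smul_zero]
  obtain ⟨t', ht'⟩ := (IsLocalizedModule.eq_zero_iff Q.primeCompl fE).mp h1
  have h2 : ιM ((t' : B) • y) = 0 := by rw [map_smul]; exact ht'
  let x : W ⊗[A] M := TensorProduct.comm A M W ((t' : B) • y)
  have hx : (ι.restrictScalars A).rTensor M x = 0 := by
    show ((ι.restrictScalars A).rTensor M).comp (TensorProduct.comm A M W).toLinearMap ((t' : B) • y) = 0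
    rw [← LinearEquiv.map_eq_zero_iff (TensorProduct.comm A E M)]
    refine Eq.trans ?_ h2
    show ((TensorProduct.comm A E M).toLinearMap ∘ₗ ((ι.restrictScalars A).rTensor M) ∘ₗ
      (TensorProduct.comm A M W).toLinearMap) ((t' : B) • y) = _
    rw [LinearMap.comm_comp_rTensor_comp_comm_eq]
    rfl
  obtain ⟨τ, hτ, hnzd⟩ := hgood x hx
  have h3 := lTensor_mk_eq_zero Q hW x τ hτ hnzd
  have h4 : fW ((t' : B) • y) = 0 := by
    have h5 : TensorProduct.comm A L W (fW ((t' : B) • y)) = 0 := by
      rw [← h3]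
      show ((TensorProduct.comm A L W).toLinearMap.comp ((f.restrictScalars A).rTensor W)) ((t' : B) • y) = _
      rw [← LinearMap.lTensor_comp_comm]
      rfl
    exact (TensorProduct.comm A L W).injective (h5.trans (map_zero _).symm)
  rw [map_smul, ← ht, Submonoid.smul_def, smul_smul] at h4
  have h6 := (IsLocalizedModule.map_units fW (⟨(t' : B) * t, Q.primeCompl.mul_mem t'.2 t.2⟩ : Q.primeCompl))
  exact ((Module.End.isUnit_iff _).mp h6).1 (h4.trans (map_zero _).symm)

end

end Groth.FlatDescent.Joint
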