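import Groth.Statements.S4856
import Groth.Agent.FlatDescent.RestrictFlat
import Groth.Agent.QCohLib.Pullback
import Groth.Agent.QCohLib.TildeFlat
import Groth.Agent.QCohLib.Affine
import Groth.Agent.QCohLib.FiniteType

/-!
# Flatness at the points of a base-changed affine chart
-/

set_option autoImplicit false
universe u

open AlgebraicGeometry CategoryTheory CategoryTheory.Limits TensorProduct Groth.Agent.QCohLib EGA43

namespace Groth.FlatDescent.Joint

theorem isFlatOverAt_tilde_iff_localized {A B : Type u} [CommRing A] [CommRing B] [Algebra A B]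
    (M : ModuleCat.{u} (CommRingCat.of B)) [Module A M] [IsScalarTower A B M] (w : PrimeSpectrum B) :
    FlatMod.IsFlatOverAt (Spec.map (CommRingCat.ofHom (algebraMap A B))) (tilde M) w ↔
      Module.Flat A (LocalizedModule w.asIdeal.primeCompl M) := by
  letI := stalkModuleBase (A := A) M w
  haveI : IsScalarTower A B ((tilde M).presheaf.stalk w) := IsScalarTower.of_algebraMap_smul fun _ _ => rfl
  refine (isFlatOverAt_tilde_iff M w).trans ?_
  exact (Module.Flat.equiv_iff ((@IsLocalizedModule.iso _ _ w.asIdeal.primeCompl _ _ _ _ _ _ (toStalkLinear M w)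
    (isLocalizedModule_toStalkLinear M w)).restrictScalars A)).symm

/-- The base change of an affine chart and flatness at its points. -/
theorem exists_chart {X : Scheme.{u}} {A : Type u} [CommRing A] (f : X ⟶ Spec (CommRingCat.of A))
    (F : X.Modules) [F.IsQuasicoherent] {B : Type u} [CommRing B] [Algebra A B]
    (k : Spec (CommRingCat.of B) ⟶ X) [IsOpenImmersion k]
    (hk : k ≫ f = Spec.map (CommRingCat.ofHom (algebraMap A B)))
    (M : ModuleCat.{u} (CommRingCat.of B)) (eM : tilde M ≅ F.restrict k) [Module A M] [IsScalarTower A B M]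
    (A' : Type u) [CommRing A'] [Algebra A A'] :
    letI g := Spec.map (CommRingCat.ofHom (algebraMap A A'))
    letI : Algebra A' (B ⊗[A] A') := Algebra.TensorProduct.rightAlgebra
    ∃ k' : PrimeSpectrum (B ⊗[A] A') → ↥(pullback f g),
      (∀ w, pullback.fst f g (k' w) =
        k (PrimeSpectrum.comap (Algebra.TensorProduct.includeLeftRingHom : B →+* B ⊗[A] A') w)) ∧
      (∀ w, pullback.snd f g (k' w) =
        PrimeSpectrum.comap (Algebra.TensorProduct.includeRight (R := A) (A := B) (B := A')).toRingHom w) ∧
      (∀ x', pullback.fst f g x' ∈ Set.range k → x' ∈ Set.range k') ∧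
      (∀ w, FlatMod.IsFlatOverAt (pullback.snd f g) ((Scheme.Modules.pullback (pullback.fst f g)).obj F) (k' w) ↔
        Module.Flat A' (LocalizedModule w.asIdeal.primeCompl ((B ⊗[A] A') ⊗[B] M))) := by
  let g := Spec.map (CommRingCat.ofHom (algebraMap A A'))
  let B' := B ⊗[A] A'
  let ψ : CommRingCat.of B ⟶ CommRingCat.of B' := CommRingCat.ofHom Algebra.TensorProduct.includeLeftRingHom
  let m := pullback.map (Spec.map (CommRingCat.ofHom (algebraMap A B))) g f g k (𝟙 _) (𝟙 _)
    (by rw [Category.comp_id, hk]) (by simp)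
  let k' : Spec (CommRingCat.of B') ⟶ pullback f g := (pullbackSpecIso A B A').inv ≫ m
  haveI : IsOpenImmersion k' := inferInstance
  have hfst : k' ≫ pullback.fst f g = Spec.map ψ ≫ k := by
    simp only [k', m, Category.assoc, pullback.lift_fst]
    exact pullbackSpecIso_inv_fst_assoc A B A' k
  have hsnd : k' ≫ pullback.snd f g =
      Spec.map (CommRingCat.ofHom (Algebra.TensorProduct.includeRight (R := A) (A := B) (B := A')).toRingHom) := by
    simp only [k', m, Category.assoc, pullback.lift_snd, Category.comp_id]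
    exact pullbackSpecIso_inv_snd A B A'
  have hrange : ∀ x' : ↥(pullback f g), pullback.fst f g x' ∈ Set.range k → x' ∈ Set.range k' := by
    intro x' hx'
    have h1 : x' ∈ Set.range m := by
      rw [Scheme.Pullback.range_map]
      exact ⟨hx', ⟨pullback.snd f g x', rfl⟩⟩
    obtain ⟨z, rfl⟩ := h1
    obtain ⟨w, rfl⟩ := (pullbackSpecIso A B A').inv.surjective z
    exact ⟨w, rfl⟩
  letI : Algebra A' B' := Algebra.TensorProduct.rightAlgebra
  refine ⟨fun w => k' w, fun w => ?_, fun w => ?_, fun x' hx' => ?_, fun w => ?_⟩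
  · exact congrArg (fun q : Spec (CommRingCat.of B') ⟶ X => q w) hfst
  · exact congrArg (fun q : Spec (CommRingCat.of B') ⟶ Spec (CommRingCat.of A') => q w) hsnd
  · obtain ⟨w, hw⟩ := hrange x' hx'
    exact ⟨w, hw⟩
  let F' := (Scheme.Modules.pullback (pullback.fst f g)).obj F
  let N := (ModuleCat.extendScalars ψ.hom).obj M
  let e : tilde N ≅ F'.restrict k' :=
    (pullbackTildeIso ψ).app M ≪≫ (Scheme.Modules.pullback (Spec.map ψ)).mapIso eM ≪≫
      pullbackRestrictIso (pullback.fst f g) F (Spec.map ψ) k' k hfst.symm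
  have hsnd' : k' ≫ pullback.snd f g = Spec.map (CommRingCat.ofHom (algebraMap A' B')) := hsnd
  letI : Module A' N := Module.compHom N (algebraMap A' B')
  haveI : IsScalarTower A' B' N := IsScalarTower.of_algebraMap_smul fun _ _ => rfl
  rw [← isFlatOverAt_restrict, ← isFlatOverAt_congr e, hsnd']
  refine (isFlatOverAt_tilde_iff_localized N w).trans ?_
  letI : Algebra B B' := Algebra.TensorProduct.leftAlgebra
  let e₁ : (ModuleCat.restrictScalars ψ.hom).obj (ModuleCat.of B' B') ≃ₗ[B] B' :=
    { toFun := fun x => x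
      map_add' := fun _ _ => rfl
      map_smul' := fun b x => (Algebra.smul_def (A := B') b x).symm
      invFun := fun x => x
      left_inv := fun _ => rfl
      right_inv := fun _ => rfl }
  let T₀ := TensorProduct.congr e₁ (LinearEquiv.refl B M)
  let T : N ≃+ B' ⊗[B] M :=
    { toFun := fun n => T₀ n
      map_add' := fun x y => T₀.map_add x y
      invFun := fun z => T₀.symm z
      left_inv := fun n => T₀.symm_apply_apply n
      right_inv := fun z => T₀.apply_symm_apply z }
  have hT : ∀ (a : B') (n : N), T (a • n) = a • T n := by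
    intro a
    let f₁ : N →+ B' ⊗[B] M := T.toAddMonoidHom.comp (DistribSMul.toAddMonoidHom N a)
    let f₂ : N →+ B' ⊗[B] M := (DistribSMul.toAddMonoidHom (B' ⊗[B] M) a).comp T.toAddMonoidHom
    suffices h : ∀ n, f₁ n = f₂ n from h
    intro n
    induction n using TensorProduct.induction_on with
    | zero => exact (map_zero f₁).trans (map_zero f₂).symm
    | add x y hx hy => exact (map_add f₁ x y).trans ((congrArg₂ (· + ·) hx hy).trans (map_add f₂ x y).symm)
    | tmul x m => rfl
  let TB : N ≃ₗ[B'] B' ⊗[B] M := { T with map_smul' := hT }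
  let f₁ := (LocalizedModule.mkLinearMap w.asIdeal.primeCompl (B' ⊗[B] M)).comp TB.toLinearMap
  haveI : IsLocalizedModule w.asIdeal.primeCompl f₁ :=
    IsLocalizedModule.of_linearEquiv_right w.asIdeal.primeCompl _ TB
  exact Module.Flat.equiv_iff ((IsLocalizedModule.iso w.asIdeal.primeCompl f₁).restrictScalars A')

end Groth.FlatDescent.Joint
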