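import Groth.Agent.S4853
import Groth.Agent.MLMod.NilFlat
import Groth.Agent.FlatDescent.Joint.Affine

/-!
# Flatness at a prime from a jointly injective family of local algebras
-/

universe u

open TensorProduct

namespace Groth.FlatDescent.Joint

theorem flat_localized_of_joint {A B M : Type u} [CommRing A] [IsLocalRing A] [IsArtinianRing A] [CommRing B]
    [Algebra A B] [IsNoetherianRing B] [AddCommGroup M] [Module A M] [Module B M] [IsScalarTower A B M]
    [Module.Finite B M] (Q : Ideal B) [Q.IsPrime] [IsLocalHom (algebraMap A (Localization.AtPrime Q))]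
    {ι : Type u} (A' : ι → Type u) [∀ i, CommRing (A' i)] [∀ i, IsLocalRing (A' i)] [∀ i, Algebra A (A' i)]
    [∀ i, IsLocalHom (algebraMap A (A' i))]
    (hu : ∀ a : A, (∀ i, algebraMap A (A' i) a = 0) → a = 0)
    (hgood : ∀ (i : ι) (W E : Type u) [AddCommGroup W] [Module A W] [Module (A' i) W] [IsScalarTower A (A' i) W]
      [AddCommGroup E] [Module A E] [Module (A' i) E] [IsScalarTower A (A' i) E] (φ : W →ₗ[A' i] E),
      Function.Injective φ → ∀ x : W ⊗[A] M, (φ.restrictScalars A).rTensor M x = 0 →
      ∃ τ ∈ (ann B (A' i) x).map (toFibre (A' i) Q), ∀ z, τ * z = 0 → z = 0) :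
    Module.Flat A (LocalizedModule Q.primeCompl M) := by
  let L := LocalizedModule Q.primeCompl M
  let m := IsLocalRing.maximalIdeal A
  have hm : IsNilpotent m := by
    have h := IsArtinianRing.isNilpotent_jacobson_bot (R := A)
    rwa [IsLocalRing.jacobson_eq_maximalIdeal ⊥ bot_ne_top] at h
  have hfree : Module.Free (A ⧸ m) ((A ⧸ m) ⊗[A] L) := by
    letI : Field (A ⧸ m) := Ideal.Quotient.field m
    exact Module.Free.of_divisionRing (A ⧸ m) ((A ⧸ m) ⊗[A] L)
  obtain ⟨R₀, -, -, huniv⟩ := Groth.Agent.S4853.result L m hm hfree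
  have hzero : ∀ i, R₀.map (algebraMap A (A' i)) = ⊥ := by
    intro i
    let m' := IsLocalRing.maximalIdeal (A' i)
    let b := R₀.map (algebraMap A (A' i))
    let E := A' i ⧸ (m' • b : Ideal (A' i))
    let bb : Ideal E := b.map (Ideal.Quotient.mk _)
    by_contra hne
    have hbb : bb ≠ ⊥ := by
      intro h
      rw [Ideal.map_eq_bot_iff_le_ker, Ideal.mk_ker] at h
      exact hne (Submodule.eq_bot_of_le_smul_of_le_jacobson_bot m' b (Ideal.FG.map (IsNoetherian.noetherian R₀) _) h
        (IsLocalRing.maximalIdeal_le_jacobson _))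
    have hbm : ∀ a ∈ m', ∀ w ∈ bb, a • w = 0 := by
      intro a ha w hw
      obtain ⟨v, hv, rfl⟩ := (Ideal.mem_map_iff_of_surjective _ Ideal.Quotient.mk_surjective).mp hw
      exact Ideal.Quotient.eq_zero_iff_mem.mpr (Submodule.smul_mem_smul ha hv)
    have hsq : IsNilpotent bb := by
      refine ⟨2, ?_⟩
      have hble : b ≤ m' := by
        by_contra hb
        obtain ⟨v, hv, hvm⟩ := SetLike.not_le_iff_exists.mp hb
        have htop : b = ⊤ := Ideal.eq_top_of_isUnit_mem _ hv (IsLocalRing.notMem_maximalIdeal.mp hvm)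
        have hR : R₀ = ⊤ := by
          by_contra hR
          have h1 : b ≤ m' := (Ideal.map_mono (IsLocalRing.le_maximalIdeal hR)).trans
            (((IsLocalRing.local_hom_TFAE (algebraMap A (A' i))).out 0 2 rfl rfl).mp inferInstance)
          exact (IsLocalRing.maximalIdeal.isMaximal (A' i)).ne_top (top_le_iff.mp (htop ▸ h1))
        have h2 := ((huniv (A ⧸ m)).2.mp (by
          letI : Field (A ⧸ m) := Ideal.Quotient.field m
          exact Module.Flat.of_free))
        rw [hR, Ideal.map_top] at h2
        exact top_ne_bot h2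
      rw [pow_two, Submodule.zero_eq_bot, eq_bot_iff, Ideal.mul_le]
      intro v hv w hw
      obtain ⟨v, hv', rfl⟩ := (Ideal.mem_map_iff_of_surjective _ Ideal.Quotient.mk_surjective).mp hv
      exact hbm v (hble hv') w hw
    have hflatq : Module.Flat (E ⧸ bb) ((E ⧸ bb) ⊗[E] (E ⊗[A] L)) := by
      have h0 : R₀.map (algebraMap A (E ⧸ bb)) = ⊥ := by
        rw [IsScalarTower.algebraMap_eq A (A' i) (E ⧸ bb), ← Ideal.map_map, IsScalarTower.algebraMap_eq (A' i) E (E ⧸ bb),
          ← Ideal.map_map]
        exact Ideal.map_quotient_self bb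
      haveI := (huniv (E ⧸ bb)).2.mpr h0
      exact Module.Flat.of_linearEquiv (AlgebraTensorModule.cancelBaseChange A E (E ⧸ bb) (E ⧸ bb) L)
    have htor : Function.Injective (bb.subtype.rTensor (E ⊗[A] L)) := by
      have h := rTensor_injective_of_joint Q (W := ↥(bb.restrictScalars (A' i))) (E := E)
        (fun a ha w => Subtype.ext (hbm a ha w.1 w.2)) (bb.restrictScalars (A' i)).subtype
        (hgood i ↥(bb.restrictScalars (A' i)) E (bb.restrictScalars (A' i)).subtype Subtype.val_injective)
      let eJ := AlgebraTensorModule.cancelBaseChange A E E bb L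
      let eA := AlgebraTensorModule.cancelBaseChange A E E E L
      have hnat : ∀ w, eA (bb.subtype.rTensor _ w) = (bb.subtype.restrictScalars A).rTensor L (eJ w) := by
        intro w
        induction w with
        | zero => simp
        | tmul a c =>
          induction c with
          | zero => simp
          | tmul s l => simp [eJ, eA]
          | add a c ha hc => simp only [tmul_add, map_add, ha, hc]
        | add a c ha hc => simp only [map_add, ha, hc]
      intro v w hvw
      refine eJ.injective (h ?_)
      show (bb.subtype.restrictScalars A).rTensor L (eJ v) = (bb.subtype.restrictScalars A).rTensor L (eJ w)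
      rw [← hnat, ← hnat, hvw]
    haveI := hflatq
    have hflat : Module.Flat E (E ⊗[A] L) := Groth.MLMod.flat_of_torZero_nilpotent bb hsq htor
    have h1 := (huniv E).2.mp hflat
    rw [IsScalarTower.algebraMap_eq A (A' i) E, ← Ideal.map_map] at h1
    exact hbb h1
  have hR₀ : R₀ = ⊥ := eq_bot_iff.mpr fun a ha => hu a fun i =>
    (Submodule.mem_bot (A' i)).mp ((hzero i) ▸ Ideal.mem_map_of_mem _ ha)
  haveI : Module.Flat A (A ⊗[A] L) := (huniv A).2.mpr (by rw [hR₀, Ideal.map_bot])
  exact Module.Flat.of_linearEquiv (TensorProduct.lid A L).symm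

end Groth.FlatDescent.Joint
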