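import Groth.Agent.FlatDescent.Joint.Primary
import Groth.Agent.FlatDescent.Joint.Affine

/-!
# Ideals of `B ⊗ A'` containing an element whose fibre image is not a zero divisor
-/

universe u

open TensorProduct

namespace Groth.FlatDescent.Joint

variable {A B : Type u} [CommRing A] [IsLocalRing A] [CommRing B] [Algebra A B]
  (A' : Type u) [CommRing A'] [IsLocalRing A'] [Algebra A A'] [IsLocalHom (algebraMap A A')]
  (Q : Ideal B) [Q.IsPrime] [IsLocalHom (algebraMap A (Localization.AtPrime Q))]

theorem exists_mem_map_nzd_of_forall (T : Ideal (B ⊗[A] A'))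
    (hT : ∀ q : Ideal (B ⊗[A] A'), q.IsPrime → q.comap Algebra.TensorProduct.includeLeftRingHom = Q →
      q.comap (Algebra.TensorProduct.includeRight (R := A) (A := B) (B := A')).toRingHom = IsLocalRing.maximalIdeal A' →
      ¬T ≤ q) :
    ∃ τ ∈ T.map (toFibre A' Q), ∀ z, τ * z = 0 → z = 0 := by
  by_cases h : T.map (toFibre A' Q) = ⊤
  · exact ⟨1, by rw [h]; exact Submodule.mem_top, fun z hz => by rwa [one_mul] at hz⟩
  obtain ⟨P, hP, hle⟩ := Ideal.exists_le_maximal _ h
  refine absurd (Ideal.map_le_iff_le_comap.mp hle) (hT (P.comap (toFibre A' Q)) inferInstance ?_ ?_)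
  · let j : Q.ResidueField →+* IsLocalRing.ResidueField A' ⊗[IsLocalRing.ResidueField A] Q.ResidueField :=
      Algebra.TensorProduct.includeRight.toRingHom
    have hj : P.comap j = ⊥ := (Ideal.eq_bot_or_top _).resolve_right (Ideal.comap_ne_top j hP.ne_top)
    ext b
    rw [Ideal.mem_comap, Ideal.mem_comap]
    show toFibre A' Q (b ⊗ₜ[A] 1) ∈ P ↔ _
    rw [toFibre_tmul, map_one]
    show algebraMap B Q.ResidueField b ∈ P.comap j ↔ _
    rw [hj, Submodule.mem_bot, Ideal.algebraMap_residueField_eq_zero]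
  · let j : IsLocalRing.ResidueField A' →+* IsLocalRing.ResidueField A' ⊗[IsLocalRing.ResidueField A] Q.ResidueField :=
      Algebra.TensorProduct.includeLeftRingHom
    have hj : P.comap j = ⊥ := (Ideal.eq_bot_or_top _).resolve_right (Ideal.comap_ne_top j hP.ne_top)
    ext a
    rw [Ideal.mem_comap, Ideal.mem_comap]
    show toFibre A' Q ((1 : B) ⊗ₜ[A] a) ∈ P ↔ _
    rw [toFibre_tmul, map_one]
    show IsLocalRing.residue A' a ∈ P.comap j ↔ _
    rw [hj, Submodule.mem_bot, IsLocalRing.residue_eq_zero_iff]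

theorem exists_mem_map_nzd_of_primary (hK : separableClosure (IsLocalRing.ResidueField A) Q.ResidueField = ⊥)
    (q : Ideal (B ⊗[A] A')) [q.IsPrime] (hqB : q.comap Algebra.TensorProduct.includeLeftRingHom = Q)
    (hqA : q.comap (Algebra.TensorProduct.includeRight (R := A) (A := B) (B := A')).toRingHom =
      IsLocalRing.maximalIdeal A')
    (T : Ideal (B ⊗[A] A')) (hT : ¬T ≤ q) :
    ∃ τ ∈ T.map (toFibre A' Q), ∀ z, τ * z = 0 → z = 0 := by
  obtain ⟨s, hsT, hsq⟩ := SetLike.not_le_iff_exists.mp hT
  refine ⟨toFibre A' Q s, Ideal.mem_map_of_mem _ hsT, fun z hz => ?_⟩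
  refine (zeroDivNil_of_primary hK (IsLocalRing.ResidueField A') _ z hz).resolve_left fun hnil => ?_
  let F := q.ResidueField
  let ψ : B ⊗[A] A' →+* F := algebraMap _ F
  let gK : Q.ResidueField →+* F :=
    Ideal.ResidueField.map Q q Algebra.TensorProduct.includeLeftRingHom hqB.symm
  have hgK : ∀ b, gK (algebraMap B Q.ResidueField b) = ψ (b ⊗ₜ 1) := fun b => by
    exact (Ideal.ResidueField.map_algebraMap Q q _ hqB.symm b).trans rfl
  let gA : IsLocalRing.ResidueField A' →+* F :=
    Ideal.Quotient.lift (IsLocalRing.maximalIdeal A')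
      (ψ.comp (Algebra.TensorProduct.includeRight (R := A) (A := B) (B := A')).toRingHom) fun a ha => by
      rw [← hqA, Ideal.mem_comap] at ha
      exact Ideal.algebraMap_residueField_eq_zero.mpr ha
  letI : Algebra (IsLocalRing.ResidueField A) F := (gA.comp (algebraMap _ _)).toAlgebra
  let gA' : IsLocalRing.ResidueField A' →ₐ[IsLocalRing.ResidueField A] F :=
    { gA with commutes' := fun _ => rfl }
  let gK' : Q.ResidueField →ₐ[IsLocalRing.ResidueField A] F :=
    { gK with
      commutes' := fun r => by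
        obtain ⟨a, rfl⟩ := IsLocalRing.residue_surjective r
        show gK (algebraMap B Q.ResidueField (algebraMap A B a)) = gA (IsLocalRing.residue A' (algebraMap A A' a))
        rw [hgK]
        show ψ (algebraMap A B a ⊗ₜ[A] 1) = ψ ((1 : B) ⊗ₜ[A] algebraMap A A' a)
        exact congrArg ψ (Algebra.TensorProduct.tmul_one_eq_one_tmul a) }
  let Λ := Algebra.TensorProduct.lift gA' gK' fun _ _ => Commute.all _ _
  have hΛ : ∀ c, Λ (toFibre A' Q c) = ψ c := fun c => by
    induction c using TensorProduct.induction_on with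
    | zero => simp only [map_zero]
    | add c d hc hd => simp only [map_add, hc, hd]
    | tmul b a =>
      rw [toFibre_tmul, Algebra.TensorProduct.lift_tmul]
      show gA (IsLocalRing.residue A' a) * gK (algebraMap B Q.ResidueField b) = _
      rw [hgK]
      show ψ (1 ⊗ₜ a) * ψ (b ⊗ₜ 1) = _
      rw [← map_mul, Algebra.TensorProduct.tmul_mul_tmul, one_mul, mul_one]
  have h0 : ψ s = 0 := by
    have := (hnil.map Λ).eq_zero
    rwa [hΛ] at this
  exact hsq (Ideal.algebraMap_residueField_eq_zero.mp h0)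

end Groth.FlatDescent.Joint
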