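import Mathlib
import Groth.Agent.FieldExtConn.Conn
import Groth.Agent.FieldExtConn.TensorDomain

/-!
# Zero divisors in `k' ⊗ K` for a primary extension `K / k`
-/

universe u

open TensorProduct

namespace Groth.FlatDescent.Joint

/-- Zero divisors are nilpotent. -/
def ZeroDivNil (T : Type u) [CommRing T] : Prop := ∀ x y : T, x * y = 0 → IsNilpotent x ∨ y = 0

theorem ZeroDivNil.of_injective {T T' : Type u} [CommRing T] [CommRing T'] (f : T →+* T')
    (hf : Function.Injective f) (h : ZeroDivNil T') : ZeroDivNil T := fun x y hxy =>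
  (h (f x) (f y) (by rw [← map_mul, hxy, map_zero])).imp
    (fun hx => (IsNilpotent.map_iff hf).mp hx) (fun hy => hf (hy.trans (map_zero f).symm))

/-- Purely inseparable extensions of a domain. -/
theorem zeroDivNil_of_purelyInseparable {S k₁ D : Type u} [Field S] [Field k₁] [Algebra S k₁]
    [IsPurelyInseparable S k₁] [CommRing D] [IsDomain D] [Algebra S D] : ZeroDivNil (D ⊗[S] k₁) := by
  intro x y hxy
  obtain ⟨n, hn, a, ha⟩ := IsPurelyInseparable.exists_pow_mem_range_tensorProduct (R := D) x
  by_cases h0 : a = 0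
  · exact Or.inl ⟨n, by rw [← ha, h0, map_zero]⟩
  · refine Or.inr ((smul_eq_zero_iff_right h0).mp ?_)
    rw [Algebra.smul_def, ha, show x ^ n = x ^ (n - 1) * x by rw [← pow_succ, Nat.sub_add_cancel hn], mul_assoc, hxy,
      mul_zero]

theorem zeroDivNil_comm_cancel {k S L K : Type u} [Field k] [Field S] [Field L] [Field K] [Algebra k S] [Algebra S L]
    [Algebra k L] [IsScalarTower k S L] [Algebra k K] [IsPurelyInseparable S L] [IsDomain (S ⊗[k] K)] :
    ZeroDivNil (L ⊗[k] K) := by
  let e : (S ⊗[k] K) ⊗[S] L ≃+* L ⊗[k] K :=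
    (Algebra.TensorProduct.comm S (S ⊗[k] K) L).toRingEquiv.trans
    (Algebra.TensorProduct.cancelBaseChange k S L L K).toRingEquiv
  exact ZeroDivNil.of_injective e.symm.toRingHom (fun a b hab => e.symm.injective hab)
    (zeroDivNil_of_purelyInseparable (S := S) (k₁ := L) (D := S ⊗[k] K))

theorem zeroDivNil_closure {k K : Type u} [Field k] [Field K] [Algebra k K] (hK : separableClosure k K = ⊥) :
    ZeroDivNil (AlgebraicClosure k ⊗[k] K) := by
  let S := separableClosure k (AlgebraicClosure k)
  haveI := Groth.Agent.FieldExtConn.isDomain_tensor_sepClosure K hK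
  haveI : IsDomain (S ⊗[k] K) :=
    MulEquiv.isDomain (K ⊗[k] S) (Algebra.TensorProduct.comm k S K).toRingEquiv.toMulEquiv
  exact zeroDivNil_comm_cancel (S := S)

theorem exists_functional_residue {E : Type u} [CommRing E] [IsLocalRing E] {V : Type u} [AddCommGroup V] [Module E V]
    (v : V) (hv : v ∉ IsLocalRing.maximalIdeal E • (⊤ : Submodule E V)) :
    ∃ μ : V →ₗ[E] IsLocalRing.ResidueField E, μ v ≠ 0 := by
  let m := IsLocalRing.maximalIdeal E
  letI : Module (IsLocalRing.ResidueField E) (V ⧸ m • (⊤ : Submodule E V)) :=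
    (Module.isTorsionBySet_quotient_ideal_smul V m).module
  haveI : IsScalarTower E (IsLocalRing.ResidueField E) (V ⧸ m • (⊤ : Submodule E V)) :=
    (Module.isTorsionBySet_quotient_ideal_smul V m).isScalarTower
  have hne : (Submodule.Quotient.mk v : V ⧸ m • (⊤ : Submodule E V)) ≠ 0 := fun h0 =>
    hv ((Submodule.Quotient.mk_eq_zero _).mp h0)
  obtain ⟨ν, hν⟩ := Module.Projective.exists_dual_ne_zero (IsLocalRing.ResidueField E) hne
  exact ⟨(ν.restrictScalars E).comp (Submodule.mkQ _), hν⟩

theorem zeroDivNil_baseChange {F₀ R Ω : Type u} [Field F₀] [IsAlgClosed F₀] [CommRing R] [Nontrivial R] [Algebra F₀ R]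
    [Field Ω] [Algebra F₀ Ω] (h : ZeroDivNil R) : ZeroDivNil (Ω ⊗[F₀] R) := by
  classical
  haveI hN : (nilradical R).IsPrime := by
    refine ⟨fun htop => ?_, fun {x y} hxy => ?_⟩
    · exact one_ne_zero (α := R) (by
        obtain ⟨n, hn⟩ := mem_nilradical.mp (htop ▸ Submodule.mem_top : (1 : R) ∈ nilradical R)
        simpa using hn)
    · obtain ⟨n, hn⟩ := mem_nilradical.mp hxy
      rw [mul_pow] at hn
      rcases h _ _ hn with hx | hy
      · obtain ⟨m, hm⟩ := hx
        exact Or.inl (mem_nilradical.mpr ⟨n * m, by rw [pow_mul, hm]⟩)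
      · exact Or.inr (mem_nilradical.mpr ⟨n, hy⟩)
  let E := Localization.AtPrime (nilradical R)
  let j : R →ₐ[F₀] E := IsScalarTower.toAlgHom F₀ R E
  have hj : Function.Injective j := by
    rw [injective_iff_map_eq_zero]
    intro r hr
    obtain ⟨⟨s, hs⟩, hsr⟩ := (IsLocalization.map_eq_zero_iff (nilradical R).primeCompl E r).mp hr
    rcases h s r hsr with hs' | hr0
    · exact absurd (mem_nilradical.mpr hs') hs
    · exact hr0
  suffices hE : ZeroDivNil (Ω ⊗[F₀] E) from
    ZeroDivNil.of_injective (Algebra.TensorProduct.map (AlgHom.id F₀ Ω) j).toRingHom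
      (Module.Flat.lTensor_preserves_injective_linearMap (M := Ω) j.toLinearMap hj) hE
  have hnil : ∀ z ∈ IsLocalRing.maximalIdeal E, IsNilpotent z := fun z hz => by
    obtain ⟨r, s, rfl⟩ := IsLocalization.exists_mk'_eq (nilradical R).primeCompl z
    have hr : r ∈ nilradical R :=
      (IsLocalization.AtPrime.mk'_mem_maximal_iff E (nilradical R) r s).mp hz
    obtain ⟨m, hm⟩ := mem_nilradical.mp hr
    exact ⟨m, by rw [← IsLocalization.mk'_pow, hm, IsLocalization.mk'_zero]⟩
  intro x y hxy
  let F := IsLocalRing.ResidueField E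
  haveI : IsDomain (Ω ⊗[F₀] F) := Groth.Agent.FieldExtConn.isDomain_tensor_of_isAlgClosed F₀ Ω F
  let b := Module.Free.chooseBasis F₀ Ω
  let ce := TensorProduct.equivFinsuppOfBasisLeft (N := E) b
  let cF := TensorProduct.equivFinsuppOfBasisLeft (N := F) b
  have hrec : ∀ z : Ω ⊗[F₀] E, z = ∑ i ∈ (ce z).support, b i ⊗ₜ ce z i := fun z => by
    conv_lhs => rw [← ce.symm_apply_apply z]
    rw [TensorProduct.equivFinsuppOfBasisLeft_symm_apply]
    rfl
  let res : E →ₐ[F₀] F := IsScalarTower.toAlgHom F₀ E F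
  let π := Algebra.TensorProduct.map (AlgHom.id F₀ Ω) res
  by_cases hx : π x = 0
  · left
    rw [hrec x]
    refine isNilpotent_sum fun i _ => ?_
    have hi : ce x i ∈ IsLocalRing.maximalIdeal E := by
      have h1 : cF (π x) i = res (ce x i) := by
        conv_lhs => rw [hrec x]
        simp +contextual [map_sum, π, cF, b.repr_self, Finsupp.single_apply]
      rw [hx, map_zero] at h1
      exact (IsLocalRing.residue_eq_zero_iff _).mp h1.symm
    obtain ⟨m, hm⟩ := hnil _ hi
    exact ⟨m, by rw [Algebra.TensorProduct.tmul_pow, hm, tmul_zero]⟩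
  · right
    by_contra hy
    let V : Submodule E E := Submodule.span E (((ce y).support.image (ce y) : Finset E) : Set E)
    have hV : ¬V ≤ IsLocalRing.maximalIdeal E • V := fun hle => by
      have hbot := Submodule.eq_bot_of_le_smul_of_le_jacobson_bot _ V (Submodule.fg_span (Finset.finite_toSet _)) hle
        (IsLocalRing.maximalIdeal_le_jacobson _)
      refine hy ?_
      rw [hrec y]
      refine Finset.sum_eq_zero fun i hi => ?_
      have : ce y i ∈ V := Submodule.subset_span (Finset.mem_coe.mpr (Finset.mem_image_of_mem _ hi))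
      rw [hbot, Submodule.mem_bot] at this
      rw [this, tmul_zero]
    obtain ⟨i₀, hi₀, hmem⟩ : ∃ i, ∃ hi : ce y i ∈ V, ce y i ∉ IsLocalRing.maximalIdeal E • V := by
      by_contra hall
      push Not at hall
      refine hV (Submodule.span_le.mpr fun z hz => ?_)
      obtain ⟨i, hi, rfl⟩ := Finset.mem_image.mp (Finset.mem_coe.mp hz)
      exact hall i (Submodule.subset_span hz)
    have hne : (⟨ce y i₀, hi₀⟩ : ↥V) ∉ IsLocalRing.maximalIdeal E • (⊤ : Submodule E ↥V) := fun h0 =>
      hmem ((Submodule.mem_smul_top_iff _ _ _).mp h0)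
    obtain ⟨μ, hν⟩ := exists_functional_residue _ hne
    let yv : _ → ↥V := fun i => if h : ce y i ∈ V then ⟨ce y i, h⟩ else 0
    have hyv : ∀ i ∈ (ce y).support, (yv i : E) = ce y i := fun i hi => by
      have hm : ce y i ∈ V := Submodule.subset_span (Finset.mem_coe.mpr (Finset.mem_image_of_mem _ hi))
      simp only [yv, dif_pos hm]
    let Z : Ω ⊗[F₀] ↥V := ∑ i ∈ (ce x).support, ∑ j ∈ (ce y).support, (b i * b j) ⊗ₜ (ce x i • yv j)
    have hZ : Z = 0 := by
      refine Module.Flat.lTensor_preserves_injective_linearMap (M := Ω) (V.subtype.restrictScalars F₀)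
        Subtype.val_injective ?_
      rw [map_zero, map_sum]
      refine Eq.trans ?_ hxy
      conv_rhs => rw [hrec x, hrec y]
      rw [Finset.sum_mul_sum]
      refine Finset.sum_congr rfl fun i _ => ?_
      rw [map_sum]
      refine Finset.sum_congr rfl fun j hj => ?_
      rw [Algebra.TensorProduct.tmul_mul_tmul, LinearMap.lTensor_tmul]
      show (b i * b j) ⊗ₜ (ce x i * (yv j : E)) = _
      rw [hyv j hj]
    let yb : Ω ⊗[F₀] F := ∑ j ∈ (ce y).support, b j ⊗ₜ μ (yv j)
    have hprod : π x * yb = 0 := by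
      have h2 := congrArg (LinearMap.lTensor Ω (μ.restrictScalars F₀)) hZ
      rw [map_zero, map_sum] at h2
      refine Eq.trans ?_ h2
      conv_lhs => rw [hrec x, map_sum, Finset.sum_mul_sum]
      refine Finset.sum_congr rfl fun i _ => ?_
      rw [map_sum]
      refine Finset.sum_congr rfl fun j _ => ?_
      rw [LinearMap.lTensor_tmul, LinearMap.restrictScalars_apply, map_smul, Algebra.smul_def, Algebra.TensorProduct.map_tmul,
        Algebra.TensorProduct.tmul_mul_tmul]
      rfl
    rcases mul_eq_zero.mp hprod with h1 | h1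
    · exact hx h1
    · refine hν ?_
      have hi₀s : i₀ ∈ (ce y).support := Finsupp.mem_support_iff.mpr fun h0 => hmem (by rw [h0]; exact zero_mem _)
      have h3 : cF yb i₀ = μ (yv i₀) := by
        simp [yb, map_sum, cF, b.repr_self, Finsupp.single_apply, hi₀s]
      rw [h1, map_zero] at h3
      simp only [yv, dif_pos hi₀] at h3
      exact h3.symm

/-- **Zero divisors of `k' ⊗ K` are nilpotent** when `K / k` is primary. -/
theorem zeroDivNil_of_primary {k K : Type u} [Field k] [Field K] [Algebra k K] (hK : separableClosure k K = ⊥)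
    (k' : Type u) [Field k'] [Algebra k k'] : ZeroDivNil (k' ⊗[k] K) := by
  let k₁ := AlgebraicClosure k
  let Ω := AlgebraicClosure k'
  letI : Algebra k₁ Ω := (IsAlgClosed.lift : k₁ →ₐ[k] Ω).toRingHom.toAlgebra
  haveI : IsScalarTower k k₁ Ω := IsScalarTower.of_algebraMap_eq fun a => ((IsAlgClosed.lift : k₁ →ₐ[k] Ω).commutes a).symm
  let i : k' →ₐ[k] Ω := IsScalarTower.toAlgHom k k' Ω
  refine ZeroDivNil.of_injective (Algebra.TensorProduct.map i (AlgHom.id k K)).toRingHom
    (Module.Flat.rTensor_preserves_injective_linearMap (M := K) i.toLinearMap i.injective) ?_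
  let e := (Algebra.TensorProduct.cancelBaseChange k k₁ Ω Ω K).toRingEquiv
  exact ZeroDivNil.of_injective e.symm.toRingHom e.symm.injective (zeroDivNil_baseChange (zeroDivNil_closure hK))

end Groth.FlatDescent.Joint
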