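import Mathlib

/-!
# Primary residue extensions through an affine chart
-/

set_option autoImplicit false
universe u

open AlgebraicGeometry CategoryTheory

namespace Groth.FlatDescent.Joint

/-- The value at a point of `Spec A`. -/
noncomputable def valueAt (A : Type u) [CommRing A] (p : Spec (CommRingCat.of A)) :
    A →+* (Spec (CommRingCat.of A)).residueField p :=
  ((Scheme.ΓSpecIso (CommRingCat.of A)).inv ≫ (Spec (CommRingCat.of A)).Γevaluation p).hom

theorem residueFieldIso_inv_algebraMap (A : Type u) [CommRing A] (p : PrimeSpectrum A) (a : A) :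
    (Scheme.Spec.residueFieldIso (CommRingCat.of A) p).inv (algebraMap A p.asIdeal.ResidueField a) = valueAt A p a := by
  have h1 : CommRingCat.ofHom (algebraMap A p.asIdeal.ResidueField) ≫
      (Scheme.Spec.residueFieldIso (CommRingCat.of A) p).inv =
      (Scheme.ΓSpecIso (CommRingCat.of A)).inv ≫ (Spec (CommRingCat.of A)).Γevaluation p :=
    Scheme.Spec.algebraMap_residueFieldIso_inv (CommRingCat.of A) p
  exact RingHom.congr_fun (congrArg CommRingCat.Hom.hom h1) a

theorem valueAt_surjective (A : Type u) [CommRing A] (p : Spec (CommRingCat.of A)) [p.asIdeal.IsMaximal] :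
    Function.Surjective (valueAt A p) := fun c => by
  obtain ⟨a, ha⟩ := Ideal.algebraMap_residueField_surjective p.asIdeal
    ((Scheme.Spec.residueFieldIso (CommRingCat.of A) p).hom c)
  refine ⟨a, ?_⟩
  rw [← residueFieldIso_inv_algebraMap, ha]
  exact Iso.hom_inv_id_apply _ c

theorem residueFieldMap_valueAt {A B : Type u} [CommRing A] [CommRing B] (φ : A →+* B) {X : Scheme.{u}}
    (f : X ⟶ Spec (CommRingCat.of A)) (k : Spec (CommRingCat.of B) ⟶ X)
    (hk : k ≫ f = Spec.map (CommRingCat.ofHom φ)) (q : Spec (CommRingCat.of B)) (a : A) :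
    k.residueFieldMap q (f.residueFieldMap (k q) (valueAt A (f (k q)) a)) = valueAt B q (φ a) := by
  show k.residueFieldMap q (f.residueFieldMap (k q) ((Spec (CommRingCat.of A)).Γevaluation (f (k q)) _)) = _
  rw [Scheme.Γevaluation_naturality_apply, Scheme.Γevaluation_naturality_apply]
  refine congrArg (fun z => (Spec (CommRingCat.of B)).Γevaluation q z) ?_
  have h1 : f.appTop ≫ k.appTop = (Spec.map (CommRingCat.ofHom φ)).appTop := by rw [← Scheme.Hom.comp_appTop, hk]
  exact (ConcreteCategory.congr_hom h1 _).trans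
    (ConcreteCategory.congr_hom (Scheme.ΓSpecIso_inv_naturality (CommRingCat.ofHom φ)) a).symm

/-- Separable elements are preserved by compatible field maps. -/
theorem separableClosure_eq_bot_of_square {k k' K K' : Type u} [Field k] [Field k'] [Field K] [Field K'] [Algebra k K]
    [Algebra k' K'] (g : k →+* k') (hg : Function.Surjective g) (e : K →+* K')
    (h : e.comp (algebraMap k K) = (algebraMap k' K').comp g)
    (hprim : ∀ a : K', IsSeparable k' a → a ∈ (algebraMap k' K').range) :
    separableClosure k K = ⊥ := by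
  refine eq_bot_iff.mpr fun a ha => ?_
  have hsep : (minpoly k a).Separable := mem_separableClosure_iff.mp ha
  have hea : IsSeparable k' (e a) := by
    refine Polynomial.Separable.of_dvd (hsep.map (f := g)) (minpoly.dvd k' (e a) ?_)
    rw [Polynomial.aeval_def, Polynomial.eval₂_map, ← h, ← Polynomial.hom_eval₂, ← Polynomial.aeval_def,
      minpoly.aeval, map_zero]
  obtain ⟨c, hc⟩ := hprim (e a) hea
  obtain ⟨c, rfl⟩ := hg c
  exact IntermediateField.mem_bot.mpr ⟨c, e.injective ((RingHom.congr_fun h c).trans hc)⟩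

/-- A primary extension `κ(x) / κ(f x)` stays primary in an affine chart. -/
theorem separableClosure_eq_bot_of_primary {A B : Type u} [CommRing A] [IsArtinianRing A] [IsLocalRing A] [CommRing B]
    [Algebra A B] {X : Scheme.{u}} (f : X ⟶ Spec (CommRingCat.of A)) (k : Spec (CommRingCat.of B) ⟶ X)
    [IsOpenImmersion k] (hk : k ≫ f = Spec.map (CommRingCat.ofHom (algebraMap A B))) (Q : PrimeSpectrum B) (x : X)
    (hQ : k Q = x) [IsLocalHom (algebraMap A (Localization.AtPrime Q.asIdeal))]
    (hprim : letI := (f.residueFieldMap x).hom.toAlgebra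
      ∀ a : ↑(X.residueField x), IsSeparable ↑((Spec (CommRingCat.of A)).residueField (f x)) a →
        a ∈ (f.residueFieldMap x).hom.range) :
    separableClosure (IsLocalRing.ResidueField A) Q.asIdeal.ResidueField = ⊥ := by
  subst hQ
  haveI : (PrimeSpectrum.asIdeal (f (k Q))).IsMaximal :=
    (IsArtinianRing.isPrime_iff_isMaximal _).mp (PrimeSpectrum.isPrime _)
  have hs₀ := valueAt_surjective A (f (k Q))
  let g : IsLocalRing.ResidueField A →+* (Spec (CommRingCat.of A)).residueField (f (k Q)) :=
    Ideal.Quotient.lift (IsLocalRing.maximalIdeal A) (valueAt A (f (k Q))) fun a ha => by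
      have h1 := IsLocalRing.eq_maximalIdeal (RingHom.ker_isMaximal_of_surjective _ hs₀)
      exact RingHom.mem_ker.mp (h1.symm ▸ ha)
  letI := (f.residueFieldMap (k Q)).hom.toAlgebra
  let e : Q.asIdeal.ResidueField →+* X.residueField (k Q) :=
    ((Scheme.Spec.residueFieldIso (CommRingCat.of B) Q).inv ≫ CategoryTheory.inv (k.residueFieldMap Q)).hom
  refine separableClosure_eq_bot_of_square g (fun c => ?_) e ?_ hprim
  · obtain ⟨a, rfl⟩ := hs₀ c
    exact ⟨IsLocalRing.residue A a, rfl⟩
  refine RingHom.ext fun r => ?_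
  obtain ⟨a, rfl⟩ := IsLocalRing.residue_surjective r
  show CategoryTheory.inv (k.residueFieldMap Q) ((Scheme.Spec.residueFieldIso (CommRingCat.of B) Q).inv
    (algebraMap B Q.asIdeal.ResidueField (algebraMap A B a))) = f.residueFieldMap (k Q) (valueAt A (f (k Q)) a)
  rw [residueFieldIso_inv_algebraMap, ← residueFieldMap_valueAt (algebraMap A B) f k hk Q a]
  exact IsIso.hom_inv_id_apply (k.residueFieldMap Q) _

end Groth.FlatDescent.Joint
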