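import Groth.Agent.FlatDescent.Joint.Chart
import Groth.Agent.FlatDescent.Joint.Flat
import Groth.Agent.FlatDescent.Joint.Good
import Groth.Agent.FlatDescent.Joint.Residue

/-!
# Flatness at a point over an Artinian local base
-/

set_option autoImplicit false
universe u

open AlgebraicGeometry CategoryTheory CategoryTheory.Limits TensorProduct Groth.Agent.QCohLib EGA43

namespace Groth.FlatDescent.Joint

/-- Flatness at `x` follows from conditions on the base changes of an affine chart around `x`. -/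
theorem isFlatOverAt_of_joint {A : Type u} [CommRing A] [IsArtinianRing A] [IsLocalRing A] {X : Scheme.{u}}
    (f : X ⟶ Spec (CommRingCat.of A)) [LocallyOfFiniteType f] (F : X.Modules) (hF : Coh.IsCoh F) (x : X)
    {ι : Type u} (A' : ι → Type u) [∀ i, CommRing (A' i)] [∀ i, IsLocalRing (A' i)] [∀ i, Algebra A (A' i)]
    [∀ i, IsLocalHom (algebraMap A (A' i))]
    (hu : ∀ a : A, (∀ i, algebraMap A (A' i) a = 0) → a = 0)
    (hcond : ∀ (B : Type u) [CommRing B] [Algebra A B] (k : Spec (CommRingCat.of B) ⟶ X) [IsOpenImmersion k],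
      k ≫ f = Spec.map (CommRingCat.ofHom (algebraMap A B)) →
      ∀ (M : ModuleCat.{u} (CommRingCat.of B)), (tilde M ≅ F.restrict k) →
      ∀ [Module A M] [IsScalarTower A B M] (Q : PrimeSpectrum B), k Q = x →
      ∀ [IsLocalHom (algebraMap A (Localization.AtPrime Q.asIdeal))],
      ∀ (i : ι) (W E : Type u) [AddCommGroup W] [Module A W] [Module (A' i) W] [IsScalarTower A (A' i) W]
      [AddCommGroup E] [Module A E] [Module (A' i) E] [IsScalarTower A (A' i) E] (φ : W →ₗ[A' i] E),
      Function.Injective φ → ∀ z : W ⊗[A] M, (φ.restrictScalars A).rTensor M z = 0 →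
      ∃ τ ∈ (ann B (A' i) z).map (toFibre (A' i) Q.asIdeal), ∀ w, τ * w = 0 → w = 0) :
    FlatMod.IsFlatOverAt f F x := by
  haveI := hF.1
  obtain ⟨_, ⟨U, hU, rfl⟩, hxU, -⟩ := X.isBasis_affineOpens.exists_subset_of_mem_open (Set.mem_univ x) isOpen_univ
  obtain ⟨Q, hQ⟩ : x ∈ Set.range hU.fromSpec := hU.range_fromSpec ▸ hxU
  obtain ⟨φ, hφ⟩ := Spec.map_surjective (hU.fromSpec ≫ f)
  letI : Algebra A Γ(X, U) := φ.hom.toAlgebra
  have hk : hU.fromSpec ≫ f = Spec.map (CommRingCat.ofHom (algebraMap A Γ(X, U))) := hφ.symm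
  haveI : Algebra.FiniteType A Γ(X, U) := by
    have : LocallyOfFiniteType (Spec.map φ) := hφ ▸ inferInstance
    exact (HasRingHomProperty.Spec_iff (P := @LocallyOfFiniteType)).mp this
  haveI : IsNoetherianRing Γ(X, U) := Algebra.FiniteType.isNoetherianRing A _
  haveI : (F.restrict hU.fromSpec).IsQuasicoherent := inferInstance
  let M : ModuleCat.{u} (CommRingCat.of Γ(X, U)) := ΓR (F.restrict hU.fromSpec)
  haveI : Module.Finite Γ(X, U) M :=
    haveI := (isCoh_iff.mp hF).2 ⟨U, hU⟩
    Module.Finite.equiv (onSpecΓ F hU).symm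
  letI : Module A M := Module.compHom M (algebraMap A Γ(X, U))
  haveI : IsScalarTower A Γ(X, U) M := IsScalarTower.of_algebraMap_smul fun _ _ => rfl
  haveI : IsLocalHom (algebraMap A (Localization.AtPrime Q.asIdeal)) := by
    refine ((IsLocalRing.local_hom_TFAE (algebraMap A (Localization.AtPrime Q.asIdeal))).out 0 2 rfl rfl).mpr ?_
    rw [IsScalarTower.algebraMap_eq A Γ(X, U), ← Ideal.map_map]
    refine (Ideal.map_mono (Ideal.map_le_iff_le_comap.mpr ?_)).trans Localization.AtPrime.map_eq_maximalIdeal.le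
    exact (IsLocalRing.eq_maximalIdeal (IsArtinianRing.isPrime_iff_isMaximal _ |>.mp inferInstance)).ge
  have eM : tilde M ≅ F.restrict hU.fromSpec := counitIso (F.restrict hU.fromSpec)
  have hflat := flat_localized_of_joint Q.asIdeal A' hu (fun i W E _ _ _ _ _ _ _ _ φ hφ' z hz =>
    hcond _ hU.fromSpec hk M eM Q hQ i W E φ hφ' z hz)
  rw [← hQ, ← isFlatOverAt_restrict hU.fromSpec f F Q, ← isFlatOverAt_congr eM, hk]
  exact (isFlatOverAt_tilde_iff_localized M Q).mpr hflat

end Groth.FlatDescent.Joint
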